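import Groth.Prelude.Def_Biext
import Groth.Prelude.Def_CGrpSh2
import Mathlib.CategoryTheory.Sites.EpiMono
import Mathlib.CategoryTheory.Sites.Subsheaf
import Mathlib.Algebra.Homology.ShortComplex.Ab
import Mathlib.Algebra.DirectSum.Basic
import Mathlib.CategoryTheory.Abelian.Injective.Basic

/-!
Sections of sheaves on a site: gluing, exactness, and sections of internal Hom sheaves.
-/

universe u

open CategoryTheory CategoryTheory.Limits Opposite

noncomputable section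

namespace Groth.Agent.BiextVanish

variable {C : Type (u + 1)} [Category.{u} C] {J : GrothendieckTopology C}

theorem eq_of_local (F : Sheaf J (Type (u + 1))) {U : C} {S : Sieve U} (hS : S ∈ J U) {x y : F.obj.obj (op U)}
    (h : ∀ ⦃V : C⦄ (f : V ⟶ U), S f → F.obj.map f.op x = F.obj.map f.op y) : x = y :=
  ((isSheaf_iff_isSheaf_of_type _ _).mp F.property S hS).isSeparatedFor.ext h

theorem eq_of_local' (P : Sheaf J AddCommGrpCat.{u + 1}) {U : C} {S : Sieve U} (hS : S ∈ J U)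
    {x y : P.obj.obj (op U)}
    (h : ∀ ⦃V : C⦄ (f : V ⟶ U), S f → P.obj.map f.op x = P.obj.map f.op y) : x = y :=
  eq_of_local (Biext.uSh J P) hS h

theorem glue (F : Sheaf J (Type (u + 1))) {U : C} (Pr : ∀ ⦃V : C⦄, (V ⟶ U) → F.obj.obj (op V) → Prop)
    (hres : ∀ ⦃V W : C⦄ (f : V ⟶ U) (g : W ⟶ V) (x : F.obj.obj (op V)), Pr f x → Pr (g ≫ f) (F.obj.map g.op x))
    (huniq : ∀ ⦃V : C⦄ (f : V ⟶ U) (x y : F.obj.obj (op V)), Pr f x → Pr f y → x = y)
    (hloc : ∃ S ∈ J U, ∀ ⦃V : C⦄ (f : V ⟶ U), S f → ∃ x, Pr f x) :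
    ∃ x : F.obj.obj (op U), ∃ S ∈ J U, ∀ ⦃V : C⦄ (f : V ⟶ U), S f → Pr f (F.obj.map f.op x) := by
  obtain ⟨S, hS, hex⟩ := hloc
  choose x hx using hex
  let fam : Presieve.FamilyOfElements F.obj S.arrows := fun V f hf => x f hf
  have hc : fam.Compatible := by
    intro Y₁ Y₂ Z g₁ g₂ f₁ f₂ h₁ h₂ e
    exact huniq (g₁ ≫ f₁) _ _ (hres f₁ g₁ _ (hx f₁ h₁)) (e ▸ hres f₂ g₂ _ (hx f₂ h₂))
  obtain ⟨t, ht, -⟩ := (isSheaf_iff_isSheaf_of_type _ _).mp F.property S hS fam hc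
  exact ⟨t, S, hS, fun V f hf => by rw [ht f hf]; exact hx f hf⟩

theorem glue' (P : Sheaf J AddCommGrpCat.{u + 1}) {U : C} (Pr : ∀ ⦃V : C⦄, (V ⟶ U) → P.obj.obj (op V) → Prop)
    (hres : ∀ ⦃V W : C⦄ (f : V ⟶ U) (g : W ⟶ V) (x : P.obj.obj (op V)), Pr f x → Pr (g ≫ f) (P.obj.map g.op x))
    (huniq : ∀ ⦃V : C⦄ (f : V ⟶ U) (x y : P.obj.obj (op V)), Pr f x → Pr f y → x = y)
    (hloc : ∃ S ∈ J U, ∀ ⦃V : C⦄ (f : V ⟶ U), S f → ∃ x, Pr f x) :
    ∃ x : P.obj.obj (op U), ∃ S ∈ J U, ∀ ⦃V : C⦄ (f : V ⟶ U), S f → Pr f (P.obj.map f.op x) :=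
  glue (Biext.uSh J P) Pr hres huniq hloc

theorem map_app {P Q : Sheaf J AddCommGrpCat.{u + 1}} (φ : P ⟶ Q) {U V : C} (f : V ⟶ U) (x : P.obj.obj (op U)) :
    Q.obj.map f.op (φ.hom.app (op U) x) = φ.hom.app (op V) (P.obj.map f.op x) :=
  (ConcreteCategory.congr_hom (φ.hom.naturality f.op) x).symm

theorem map_id' (P : Sheaf J AddCommGrpCat.{u + 1}) {U : C} (x : P.obj.obj (op U)) :
    P.obj.map (𝟙 U).op x = x := by simp

theorem map_comp' (P : Sheaf J AddCommGrpCat.{u + 1}) {U V W : C} (f : V ⟶ U) (g : W ⟶ V) (x : P.obj.obj (op U)) :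
    P.obj.map (g ≫ f).op x = P.obj.map g.op (P.obj.map f.op x) := by simp

section Abelian

variable [HasSheafify J AddCommGrpCat.{u + 1}]

/-- sections over an object, as a functor -/
abbrev evSect (U : C) : Sheaf J AddCommGrpCat.{u + 1} ⥤ AddCommGrpCat.{u + 1} :=
  sheafToPresheaf J _ ⋙ (evaluation _ _).obj (op U)

theorem app_injective {P Q : Sheaf J AddCommGrpCat.{u + 1}} (φ : P ⟶ Q) [Mono φ] (U : C) :
    Function.Injective (φ.hom.app (op U)) :=
  (AddCommGrpCat.mono_iff_injective _).mp ((evSect (J := J) U).map_mono φ)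

theorem mono_of_app_injective {P Q : Sheaf J AddCommGrpCat.{u + 1}} (φ : P ⟶ Q)
    (h : ∀ U : C, Function.Injective (φ.hom.app (op U))) : Mono φ := by
  haveI : ∀ U, Mono (φ.hom.app U) := fun U => (AddCommGrpCat.mono_iff_injective _).mpr (h U.unop)
  haveI : Mono φ.hom := NatTrans.mono_of_mono_app _
  exact (sheafToPresheaf J _).mono_of_mono_map (inferInstance : Mono φ.hom)

theorem epi_of_local {P Q : Sheaf J AddCommGrpCat.{u + 1}} (φ : P ⟶ Q)
    (h : ∀ (U : C) (y : Q.obj.obj (op U)), ∃ S ∈ J U, ∀ ⦃V : C⦄ (f : V ⟶ U), S f →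
      ∃ x, φ.hom.app (op V) x = Q.obj.map f.op y) : Epi φ := by
  rw [← Sheaf.isLocallySurjective_iff_epi']
  refine ⟨fun {U} y => ?_⟩
  obtain ⟨S, hS, hx⟩ := h U y
  refine J.superset_covering ?_ hS
  intro V f hf
  exact hx f hf

theorem exists_local_of_epi {P Q : Sheaf J AddCommGrpCat.{u + 1}} (φ : P ⟶ Q) [Epi φ] (U : C)
    (y : Q.obj.obj (op U)) : ∃ S ∈ J U, ∀ ⦃V : C⦄ (f : V ⟶ U), S f →
      ∃ x, φ.hom.app (op V) x = Q.obj.map f.op y := by
  haveI := (Sheaf.isLocallySurjective_iff_epi' (φ := φ)).mpr inferInstance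
  exact ⟨_, Presheaf.imageSieve_mem J φ.hom y, fun V f hf => hf⟩

theorem exists_of_exact_mono (S : ShortComplex (Sheaf J AddCommGrpCat.{u + 1})) (hS : S.Exact) [Mono S.f]
    (U : C) (x : S.X₂.obj.obj (op U)) (hx : S.g.hom.app (op U) x = 0) : ∃ z, S.f.hom.app (op U) z = x := by
  haveI : (evSect (J := J) U).PreservesZeroMorphisms := ⟨fun _ _ => rfl⟩
  have h := ShortComplex.Exact.map_of_mono_of_preservesKernel hS (evSect (J := J) U) inferInstance inferInstance
  rw [ShortComplex.ab_exact_iff] at h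
  exact h x hx

theorem exists_cycles (S : ShortComplex (Sheaf J AddCommGrpCat.{u + 1}))
    (U : C) (x : S.X₂.obj.obj (op U)) (hx : S.g.hom.app (op U) x = 0) :
    ∃ z, S.iCycles.hom.app (op U) z = x :=
  exists_of_exact_mono (ShortComplex.mk S.iCycles S.g S.iCycles_g)
    (ShortComplex.exact_of_f_is_kernel _ S.cyclesIsKernel) U x hx

theorem exact_local_lift (S : ShortComplex (Sheaf J AddCommGrpCat.{u + 1})) (hS : S.Exact)
    (U : C) (x : S.X₂.obj.obj (op U)) (hx : S.g.hom.app (op U) x = 0) :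
    ∃ R ∈ J U, ∀ ⦃V : C⦄ (f : V ⟶ U), R f → ∃ y, S.f.hom.app (op V) y = S.X₂.obj.map f.op x := by
  obtain ⟨z, hz⟩ := exists_cycles S U x hx
  haveI := S.exact_iff_epi_toCycles.mp hS
  obtain ⟨R, hR, h⟩ := exists_local_of_epi S.toCycles U z
  refine ⟨R, hR, fun V f hf => ?_⟩
  obtain ⟨y, hy⟩ := h f hf
  refine ⟨y, ?_⟩
  rw [← hz, map_app, ← hy, ← S.toCycles_i]
  rfl

theorem exact_of_lift (S : ShortComplex (Sheaf J AddCommGrpCat.{u + 1}))
    (h : ∀ (U : C) (x : S.X₂.obj.obj (op U)), S.g.hom.app (op U) x = 0 → ∃ y, S.f.hom.app (op U) y = x) :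
    S.Exact := by
  rw [S.exact_iff_epi_toCycles]
  refine epi_of_local _ fun U z => ?_
  obtain ⟨y, hy⟩ := h U (S.iCycles.hom.app (op U) z) (by
    exact ConcreteCategory.congr_hom (congrArg (fun φ => φ.hom.app (op U)) S.iCycles_g) z)
  refine ⟨⊤, J.top_mem U, fun V f _ => ⟨S.X₁.obj.map f.op y, ?_⟩⟩
  apply app_injective S.iCycles V
  rw [← map_app, ← map_app, ← map_app, ← hy, ← S.toCycles_i]
  rfl

end Abelian

section InternalHom

variable {A B B' : Sheaf J AddCommGrpCat.{u + 1}}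

/-- evaluation of a section of `Hom(A, B)` over `U` at a section of `A` over `h : V ⟶ U` -/
def evS {U : C} (s : (HomSh.homSh J A B).obj.obj (op U)) {V : C} (h : V ⟶ U) :
    A.obj.obj (op V) →+ B.obj.obj (op V) :=
  ((HomSh.sectEquiv J A B U s).hom.app (op (Over.mk h))).hom

theorem evS_natural {U : C} (s : (HomSh.homSh J A B).obj.obj (op U)) {V W : C} (h : V ⟶ U) (g : W ⟶ V)
    (q : A.obj.obj (op V)) : B.obj.map g.op (evS s h q) = evS s (g ≫ h) (A.obj.map g.op q) :=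
  (ConcreteCategory.congr_hom ((HomSh.sectEquiv J A B U s).hom.naturality
    (Over.homMk g : Over.mk (g ≫ h) ⟶ Over.mk h).op) q).symm

theorem evS_map {U U' : C} (s : (HomSh.homSh J A B).obj.obj (op U)) (g : U' ⟶ U) {V : C} (h : V ⟶ U')
    (q : A.obj.obj (op V)) : evS ((HomSh.homSh J A B).obj.map g.op s) h q = evS s (h ≫ g) q := rfl

theorem evS_map_one {U U' : C} (s : (HomSh.homSh J A B).obj.obj (op U)) (g : U' ⟶ U) (q : A.obj.obj (op U')) :
    evS ((HomSh.homSh J A B).obj.map g.op s) (𝟙 U') q = evS s g q := by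
  rw [evS_map, Category.id_comp]

theorem evS_add {U : C} (s t : (HomSh.homSh J A B).obj.obj (op U)) {V : C} (h : V ⟶ U) (q : A.obj.obj (op V)) :
    evS (s + t) h q = evS s h q + evS t h q := rfl

theorem evS_zero {U : C} {V : C} (h : V ⟶ U) (q : A.obj.obj (op V)) :
    evS (0 : (HomSh.homSh J A B).obj.obj (op U)) h q = 0 := rfl

theorem evS_neg {U : C} (s : (HomSh.homSh J A B).obj.obj (op U)) {V : C} (h : V ⟶ U) (q : A.obj.obj (op V)) :
    evS (-s) h q = -evS s h q :=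
  eq_neg_of_add_eq_zero_left (by rw [← evS_add, neg_add_cancel]; rfl)

/-- post-composition -/
abbrev post (A : Sheaf J AddCommGrpCat.{u + 1}) {B B' : Sheaf J AddCommGrpCat.{u + 1}} (β : B ⟶ B') :
    HomSh.homSh J A B ⟶ HomSh.homSh J A B' := (HomSh.homShFunctor J A).map β

theorem evS_post {U : C} (β : B ⟶ B') (s : (HomSh.homSh J A B).obj.obj (op U)) {V : C} (h : V ⟶ U)
    (q : A.obj.obj (op V)) :
    evS ((post A β).hom.app (op U) s) h q = β.hom.app (op V) (evS s h q) := rfl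

theorem sect_ext {U : C} {s t : (HomSh.homSh J A B).obj.obj (op U)}
    (h : ∀ {V : C} (f : V ⟶ U) (q : A.obj.obj (op V)), evS s f q = evS t f q) : s = t := by
  apply (HomSh.sectEquiv J A B U).injective
  apply Sheaf.hom_ext
  apply NatTrans.ext
  funext X
  apply AddCommGrpCat.ext
  intro q
  exact h X.unop.hom q

/-- a section of `Hom(A, B)` from a natural family of homomorphisms -/
def mkSect {U : C} (f : ∀ {V : C} (_ : V ⟶ U), A.obj.obj (op V) →+ B.obj.obj (op V))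
    (hf : ∀ {V W : C} (h : V ⟶ U) (g : W ⟶ V) (q : A.obj.obj (op V)),
      B.obj.map g.op (f h q) = f (g ≫ h) (A.obj.map g.op q)) : (HomSh.homSh J A B).obj.obj (op U) :=
  (HomSh.sectEquiv J A B U).symm ⟨{
    app := fun X => AddCommGrpCat.ofHom (f X.unop.hom)
    naturality := fun X Y k => by
      apply AddCommGrpCat.ext
      intro q
      have e : Y.unop.hom = k.unop.left ≫ X.unop.hom := (Over.w k.unop).symm
      change f Y.unop.hom (A.obj.map k.unop.left.op q) = B.obj.map k.unop.left.op (f X.unop.hom q)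
      exact ((hf X.unop.hom k.unop.left q).trans (by rw [e])).symm }⟩

theorem evS_mkSect {U : C} (f : ∀ {V : C} (_ : V ⟶ U), A.obj.obj (op V) →+ B.obj.obj (op V))
    (hf : ∀ {V W : C} (h : V ⟶ U) (g : W ⟶ V) (q : A.obj.obj (op V)),
      B.obj.map g.op (f h q) = f (g ≫ h) (A.obj.map g.op q)) {V : C} (h : V ⟶ U) (q : A.obj.obj (op V)) :
    evS (mkSect f hf) h q = f h q := rfl

end InternalHom

end Groth.Agent.BiextVanish
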