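import Groth.Agent.BiextVanish.Torsor

/-!
The deficiency cochain of an extension `R` of `ι` to the biextension.
-/

universe u

open CategoryTheory CategoryTheory.Limits Opposite

noncomputable section

namespace Groth.Agent.BiextVanish

variable {C : Type (u + 1)} [Category.{u} C] {J : GrothendieckTopology C}
  {P Q G I I' : Sheaf J AddCommGrpCat.{u + 1}} (B : Biext J P Q G) (ι : G ⟶ I)

/-- `R` extends `ι` along the second law -/
structure ExtData where
  R : ∀ T : C, B.E.obj.obj (op T) → I.obj.obj (op T)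
  R_map : ∀ {T T' : C} (f : T' ⟶ T) (x : B.E.obj.obj (op T)), I.obj.map f.op (R T x) = R T' (B.E.obj.map f.op x)
  R_add₂ : ∀ (T : C) (x y : B.E.obj.obj (op T)) (h : B.πP T x = B.πP T y), R T (B.add₂ T x y h) = R T x + R T y
  R_act : ∀ (T : C) (g : G.obj.obj (op T)) (x : B.E.obj.obj (op T)), R T (B.act T g x) = ι.hom.app (op T) g + R T x

theorem exists_lifts₂ (U : C) (p p' : P.obj.obj (op U)) (q : Q.obj.obj (op U)) :
    ∃ S ∈ J U, ∀ ⦃V : C⦄ (f : V ⟶ U), S f → ∃ x z : B.E.obj.obj (op V), B.πP V x = P.obj.map f.op p ∧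
      B.πP V z = P.obj.map f.op p' ∧ B.πQ V x = Q.obj.map f.op q ∧ B.πQ V z = Q.obj.map f.op q := by
  obtain ⟨S₁, hS₁, h₁⟩ := B.locallySurjective U p q
  obtain ⟨S₂, hS₂, h₂⟩ := B.locallySurjective U p' q
  refine ⟨S₁ ⊓ S₂, J.intersection_covering hS₁ hS₂, fun V f hf => ?_⟩
  obtain ⟨x, hx, hx'⟩ := h₁ f hf.1
  obtain ⟨z, hz, hz'⟩ := h₂ f hf.2
  exact ⟨x, z, hx, hz, hx', hz'⟩

variable {B ι} (D : ExtData B ι)

namespace ExtData

theorem exists_dl (U : C) (p p' : P.obj.obj (op U)) (q : Q.obj.obj (op U)) :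
    ∃ d : I.obj.obj (op U), ∀ {V : C} (f : V ⟶ U) (x z : B.E.obj.obj (op V)) (h : B.πQ V x = B.πQ V z),
      B.πP V x = P.obj.map f.op p → B.πP V z = P.obj.map f.op p' → B.πQ V x = Q.obj.map f.op q →
      D.R V (B.add₁ V x z h) = D.R V x + D.R V z + I.obj.map f.op d := by
  let Pr : ∀ ⦃V : C⦄, (V ⟶ U) → I.obj.obj (op V) → Prop := fun V f d =>
    ∃ (x z : B.E.obj.obj (op V)) (h : B.πQ V x = B.πQ V z), B.πP V x = P.obj.map f.op p ∧
      B.πP V z = P.obj.map f.op p' ∧ B.πQ V x = Q.obj.map f.op q ∧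
      D.R V (B.add₁ V x z h) = D.R V x + D.R V z + d
  have hres : ∀ ⦃V W : C⦄ (f : V ⟶ U) (g : W ⟶ V) (d : I.obj.obj (op V)), Pr f d → Pr (g ≫ f) (I.obj.map g.op d) := by
    rintro V W f g d ⟨x, z, h, h1, h2, h3, h4⟩
    refine ⟨B.E.obj.map g.op x, B.E.obj.map g.op z, by rw [B.πQ_map, B.πQ_map, h], by rw [B.πP_map, h1, ← map_comp'],
      by rw [B.πP_map, h2, ← map_comp'], by rw [B.πQ_map, h3, ← map_comp'], ?_⟩
    rw [← B.add₁_map g x z h, ← D.R_map, h4, map_add, map_add, D.R_map, D.R_map]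
  have huniq : ∀ ⦃V : C⦄ (f : V ⟶ U) (d d' : I.obj.obj (op V)), Pr f d → Pr f d' → d = d' := by
    rintro V f d d' ⟨x, z, h, h1, h2, h3, h4⟩ ⟨x', z', h', h1', h2', h3', h4'⟩
    obtain ⟨g, hg, -⟩ := B.existsUnique_act V x x' (h1.trans h1'.symm) (h3.trans h3'.symm)
    obtain ⟨g', hg', -⟩ := B.existsUnique_act V z z' (h2.trans h2'.symm)
      (h.symm.trans (h3.trans (h3'.symm.trans h')))
    subst hg hg'
    rw [B.add₁_act (h := h.trans (B.πQ_act V g' z).symm), add₁_act_right B g' x z h, D.R_act, D.R_act, D.R_act,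
      D.R_act, h4] at h4'
    abel_nf at h4'
    simpa using h4'
  obtain ⟨d, S, hS, hd⟩ := glue' I Pr hres huniq (by
    obtain ⟨S, hS, hl⟩ := exists_lifts₂ B U p p' q
    refine ⟨S, hS, fun V f hf => ?_⟩
    obtain ⟨x, z, h1, h2, h3, h4⟩ := hl f hf
    exact ⟨D.R V (B.add₁ V x z (h3.trans h4.symm)) - D.R V x - D.R V z, x, z, h3.trans h4.symm, h1, h2, h3, by abel⟩)
  refine ⟨d, fun {V} f x z h h1 h2 h3 => ?_⟩
  have hx : Pr f (D.R V (B.add₁ V x z h) - D.R V x - D.R V z) := ⟨x, z, h, h1, h2, h3, by abel⟩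
  have e : D.R V (B.add₁ V x z h) - D.R V x - D.R V z = I.obj.map f.op d := by
    refine eq_of_local' I (J.pullback_stable f hS) fun W g hg => ?_
    refine huniq (g ≫ f) _ _ (hres f g _ hx) ?_
    rw [← map_comp']
    exact hd (g ≫ f) hg
  rw [← e]; abel

/-- the deficiency -/
def dl (U : C) (p p' : P.obj.obj (op U)) (q : Q.obj.obj (op U)) : I.obj.obj (op U) :=
  (D.exists_dl U p p' q).choose

theorem R_add₁ (U : C) (x z : B.E.obj.obj (op U)) (h : B.πQ U x = B.πQ U z) :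
    D.R U (B.add₁ U x z h) = D.R U x + D.R U z + D.dl U (B.πP U x) (B.πP U z) (B.πQ U x) := by
  rw [(D.exists_dl U (B.πP U x) (B.πP U z) (B.πQ U x)).choose_spec (𝟙 U) x z h (map_id' P _).symm (map_id' P _).symm
    (map_id' Q _).symm, map_id']
  rfl

theorem dl_map {U V : C} (f : V ⟶ U) (p p' : P.obj.obj (op U)) (q : Q.obj.obj (op U)) :
    I.obj.map f.op (D.dl U p p' q) = D.dl V (P.obj.map f.op p) (P.obj.map f.op p') (Q.obj.map f.op q) := by
  obtain ⟨S, hS, hl⟩ := exists_lifts₂ B V (P.obj.map f.op p) (P.obj.map f.op p') (Q.obj.map f.op q)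
  refine eq_of_local' I hS fun W g hg => ?_
  obtain ⟨x, z, h1, h2, h3, h4⟩ := hl g hg
  have h := h3.trans h4.symm
  rw [← map_comp'] at h1 h2 h3
  have e1 := (D.exists_dl U p p' q).choose_spec (g ≫ f) x z h h1 h2 h3
  have e2 := (D.exists_dl V (P.obj.map f.op p) (P.obj.map f.op p') (Q.obj.map f.op q)).choose_spec g x z h
    (h1.trans (map_comp' P f g p)) (h2.trans (map_comp' P f g p')) (h3.trans (map_comp' Q f g q))
  rw [map_comp'] at e1
  exact add_left_cancel (e1.symm.trans e2)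

theorem dl_addQ (U : C) (p p' : P.obj.obj (op U)) (q q' : Q.obj.obj (op U)) :
    D.dl U p p' (q + q') = D.dl U p p' q + D.dl U p p' q' := by
  obtain ⟨S, hS, hl⟩ := exists_lifts₂ B U p p' q
  obtain ⟨S', hS', hl'⟩ := exists_lifts₂ B U p p' q'
  refine eq_of_local' I (J.intersection_covering hS hS') fun V f hf => ?_
  obtain ⟨x, z, h1, h2, h3, h4⟩ := hl f hf.1
  obtain ⟨x', z', h1', h2', h3', h4'⟩ := hl' f hf.2
  rw [map_add, D.dl_map, D.dl_map, D.dl_map, map_add]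
  have e := D.R_add₁ V (B.add₂ V x x' (h1.trans h1'.symm)) (B.add₂ V z z' (h2.trans h2'.symm))
    (by rw [B.πQ_add₂, B.πQ_add₂, h3, h3', h4, h4'])
  rw [B.compat V x x' z z' _ _ (h3.trans h4.symm) (h3'.trans h4'.symm), D.R_add₂, D.R_add₂, D.R_add₂, D.R_add₁,
    D.R_add₁, B.πP_add₂, B.πP_add₂, B.πQ_add₂, h1, h2, h3, h1', h2', h3'] at e
  rw [← sub_eq_zero] at e ⊢
  first | (rw [← e]; abel1) | (rw [← neg_eq_zero, ← e]; abel1)

theorem dl_symm (U : C) (p p' : P.obj.obj (op U)) (q : Q.obj.obj (op U)) : D.dl U p p' q = D.dl U p' p q := by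
  obtain ⟨S, hS, hl⟩ := exists_lifts₂ B U p p' q
  refine eq_of_local' I hS fun V f hf => ?_
  obtain ⟨x, z, h1, h2, h3, h4⟩ := hl f hf
  rw [D.dl_map, D.dl_map]
  have e := congrArg (D.R V) (B.add₁_comm V x z (h3.trans h4.symm))
  rw [D.R_add₁, D.R_add₁, h1, h2, h3, h4, add_comm (D.R V z)] at e
  exact add_left_cancel e

theorem dl_assoc (U : C) (p p' p'' : P.obj.obj (op U)) (q : Q.obj.obj (op U)) :
    D.dl U p p' q + D.dl U (p + p') p'' q = D.dl U p' p'' q + D.dl U p (p' + p'') q := by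
  obtain ⟨S, hS, hl⟩ := exists_lifts₂ B U p p' q
  obtain ⟨S', hS', hl'⟩ := exists_lifts₂ B U p' p'' q
  refine eq_of_local' I (J.intersection_covering hS hS') fun V f hf => ?_
  obtain ⟨x, z, h1, h2, h3, h4⟩ := hl f hf.1
  obtain ⟨-, w, -, h5, -, h6⟩ := hl' f hf.2
  simp only [map_add, D.dl_map]
  have e := congrArg (D.R V) (B.add₁_assoc V x z w (h3.trans h4.symm) (h4.trans h6.symm))
  rw [D.R_add₁, D.R_add₁, D.R_add₁, D.R_add₁, B.πP_add₁, B.πP_add₁, B.πQ_add₁, h1, h2, h5, h3, h4] at e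
  rw [← sub_eq_zero] at e ⊢
  first | (rw [← e]; abel1) | (rw [← neg_eq_zero, ← e]; abel1)

/-- the deficiency as a section of `Hom(Q, I)` -/
def dS (U : C) (p p' : P.obj.obj (op U)) : (HomSh.homSh J Q I).obj.obj (op U) :=
  mkSect (fun {V} h => AddMonoidHom.mk' (fun q => D.dl V (P.obj.map h.op p) (P.obj.map h.op p') q) (D.dl_addQ V _ _))
    fun {V W} h g q => by
      show I.obj.map g.op (D.dl V _ _ q) = D.dl W _ _ _
      rw [D.dl_map, map_comp', map_comp']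

theorem evS_dS {U V : C} (p p' : P.obj.obj (op U)) (h : V ⟶ U) (q : Q.obj.obj (op V)) :
    evS (D.dS U p p') h q = D.dl V (P.obj.map h.op p) (P.obj.map h.op p') q := rfl

theorem dS_map {U V : C} (f : V ⟶ U) (p p' : P.obj.obj (op U)) :
    (HomSh.homSh J Q I).obj.map f.op (D.dS U p p') = D.dS V (P.obj.map f.op p) (P.obj.map f.op p') := by
  refine sect_ext fun h q => ?_
  rw [evS_map, evS_dS, evS_dS, map_comp', map_comp']

theorem dS_symm (U : C) (p p' : P.obj.obj (op U)) : D.dS U p p' = D.dS U p' p :=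
  sect_ext fun h q => by rw [evS_dS, evS_dS, D.dl_symm]

theorem dS_assoc (U : C) (p p' p'' : P.obj.obj (op U)) :
    D.dS U p p' + D.dS U (p + p') p'' = D.dS U p' p'' + D.dS U p (p' + p'') := by
  refine sect_ext fun h q => ?_
  simp only [evS_add, evS_dS, map_add]
  exact D.dl_assoc _ _ _ _ _

theorem dS_zero_left (U : C) (p : P.obj.obj (op U)) : D.dS U 0 p = D.dS U 0 0 := by
  have h := D.dS_assoc U 0 0 p
  simp only [add_zero, zero_add] at h
  exact (add_right_cancel h).symm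

variable (d : I ⟶ I') (hd : ι ≫ d = 0)
include hd

theorem d_ι (U : C) (g : G.obj.obj (op U)) : d.hom.app (op U) (ι.hom.app (op U) g) = 0 :=
  ConcreteCategory.congr_hom (congrArg (fun φ => φ.hom.app (op U)) hd) g

theorem exists_Fq (U : C) (p : P.obj.obj (op U)) (q : Q.obj.obj (op U)) :
    ∃ y : I'.obj.obj (op U), ∀ {V : C} (f : V ⟶ U) (x : B.E.obj.obj (op V)),
      B.πP V x = P.obj.map f.op p → B.πQ V x = Q.obj.map f.op q →
      d.hom.app (op V) (D.R V x) = I'.obj.map f.op y := by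
  let Pr : ∀ ⦃V : C⦄, (V ⟶ U) → I'.obj.obj (op V) → Prop := fun V f y =>
    ∃ x : B.E.obj.obj (op V), B.πP V x = P.obj.map f.op p ∧ B.πQ V x = Q.obj.map f.op q ∧
      d.hom.app (op V) (D.R V x) = y
  have hres : ∀ ⦃V W : C⦄ (f : V ⟶ U) (g : W ⟶ V) (y : I'.obj.obj (op V)), Pr f y → Pr (g ≫ f) (I'.obj.map g.op y) := by
    rintro V W f g y ⟨x, h1, h2, rfl⟩
    exact ⟨B.E.obj.map g.op x, by rw [B.πP_map, h1, ← map_comp'], by rw [B.πQ_map, h2, ← map_comp'],
      by rw [← D.R_map, map_app]⟩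
  have huniq : ∀ ⦃V : C⦄ (f : V ⟶ U) (y y' : I'.obj.obj (op V)), Pr f y → Pr f y' → y = y' := by
    rintro V f y y' ⟨x, h1, h2, rfl⟩ ⟨x', h1', h2', rfl⟩
    obtain ⟨g, hg, -⟩ := B.existsUnique_act V x x' (h1.trans h1'.symm) (h2.trans h2'.symm)
    rw [← hg, D.R_act, map_add, d_ι d hd, zero_add]
  obtain ⟨y, S, hS, hy⟩ := glue' I' Pr hres huniq (by
    obtain ⟨S, hS, hl⟩ := B.locallySurjective U p q
    refine ⟨S, hS, fun V f hf => ?_⟩
    obtain ⟨x, h1, h2⟩ := hl f hf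
    exact ⟨_, x, h1, h2, rfl⟩)
  refine ⟨y, fun {V} f x h1 h2 => eq_of_local' I' (J.pullback_stable f hS) fun W g hg => ?_⟩
  refine huniq (g ≫ f) _ _ (hres f g _ ⟨x, h1, h2, rfl⟩) ?_
  rw [← map_comp']
  exact hy (g ≫ f) hg

/-- `d ∘ R` -/
def Fq (U : C) (p : P.obj.obj (op U)) (q : Q.obj.obj (op U)) : I'.obj.obj (op U) :=
  (D.exists_Fq d hd U p q).choose

theorem d_R (U : C) (x : B.E.obj.obj (op U)) :
    d.hom.app (op U) (D.R U x) = D.Fq d hd U (B.πP U x) (B.πQ U x) :=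
  ((D.exists_Fq d hd U _ _).choose_spec (𝟙 U) x (map_id' P _).symm (map_id' Q _).symm).trans (map_id' I' _)

theorem Fq_map {U V : C} (f : V ⟶ U) (p : P.obj.obj (op U)) (q : Q.obj.obj (op U)) :
    I'.obj.map f.op (D.Fq d hd U p q) = D.Fq d hd V (P.obj.map f.op p) (Q.obj.map f.op q) := by
  obtain ⟨S, hS, hl⟩ := B.locallySurjective V (P.obj.map f.op p) (Q.obj.map f.op q)
  refine eq_of_local' I' hS fun W g hg => ?_
  obtain ⟨x, h1, h2⟩ := hl g hg
  have e1 := (D.exists_Fq d hd U p q).choose_spec (g ≫ f) x (h1.trans (map_comp' P f g p).symm)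
    (h2.trans (map_comp' Q f g q).symm)
  have e2 := (D.exists_Fq d hd V (P.obj.map f.op p) (Q.obj.map f.op q)).choose_spec g x h1 h2
  rw [map_comp'] at e1
  exact e1.symm.trans e2

theorem Fq_addQ (U : C) (p : P.obj.obj (op U)) (q q' : Q.obj.obj (op U)) :
    D.Fq d hd U p (q + q') = D.Fq d hd U p q + D.Fq d hd U p q' := by
  obtain ⟨S, hS, hl⟩ := B.locallySurjective U p q
  obtain ⟨S', hS', hl'⟩ := B.locallySurjective U p q'
  refine eq_of_local' I' (J.intersection_covering hS hS') fun V f hf => ?_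
  obtain ⟨x, h1, h2⟩ := hl f hf.1
  obtain ⟨x', h1', h2'⟩ := hl' f hf.2
  rw [map_add, D.Fq_map, D.Fq_map, D.Fq_map, map_add]
  have e := D.d_R d hd V (B.add₂ V x x' (h1.trans h1'.symm))
  rw [D.R_add₂, map_add, D.d_R d hd, D.d_R d hd, B.πP_add₂, B.πQ_add₂, h1, h2, h1', h2'] at e
  exact e.symm

theorem Fq_addP (U : C) (p p' : P.obj.obj (op U)) (q : Q.obj.obj (op U)) :
    D.Fq d hd U (p + p') q = D.Fq d hd U p q + D.Fq d hd U p' q + d.hom.app (op U) (D.dl U p p' q) := by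
  obtain ⟨S, hS, hl⟩ := exists_lifts₂ B U p p' q
  refine eq_of_local' I' hS fun V f hf => ?_
  obtain ⟨x, z, h1, h2, h3, h4⟩ := hl f hf
  simp only [map_add, D.Fq_map, map_app, D.dl_map]
  have e := D.d_R d hd V (B.add₁ V x z (h3.trans h4.symm))
  rw [D.R_add₁, map_add, map_add, D.d_R d hd, D.d_R d hd, B.πP_add₁, B.πQ_add₁, h1, h2, h3, h4] at e
  exact e.symm

/-- `d ∘ R` as a section of `Hom(Q, I')` -/
def FS (U : C) (p : P.obj.obj (op U)) : (HomSh.homSh J Q I').obj.obj (op U) :=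
  mkSect (fun {V} h => AddMonoidHom.mk' (fun q => D.Fq d hd V (P.obj.map h.op p) q) (D.Fq_addQ d hd V _))
    fun {V W} h g q => by
      show I'.obj.map g.op (D.Fq d hd V _ q) = D.Fq d hd W _ _
      rw [D.Fq_map, map_comp']

theorem evS_FS {U V : C} (p : P.obj.obj (op U)) (h : V ⟶ U) (q : Q.obj.obj (op V)) :
    evS (D.FS d hd U p) h q = D.Fq d hd V (P.obj.map h.op p) q := rfl

theorem FS_map {U V : C} (f : V ⟶ U) (p : P.obj.obj (op U)) :
    (HomSh.homSh J Q I').obj.map f.op (D.FS d hd U p) = D.FS d hd V (P.obj.map f.op p) := by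
  refine sect_ext fun h q => ?_
  rw [evS_map, evS_FS, evS_FS, map_comp']

theorem FS_add (U : C) (p p' : P.obj.obj (op U)) :
    D.FS d hd U (p + p') = D.FS d hd U p + D.FS d hd U p' +
      (post Q d).hom.app (op U) (D.dS U p p') := by
  refine sect_ext fun h q => ?_
  simp only [evS_add, evS_post, evS_FS, evS_dS, map_add]
  exact D.Fq_addP d hd _ _ _ _

theorem d'_FS {I'' : Sheaf J AddCommGrpCat.{u + 1}} (d' : I' ⟶ I'') (w : d ≫ d' = 0) (U : C) (p : P.obj.obj (op U)) :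
    (post Q d').hom.app (op U) (D.FS d hd U p) = 0 := by
  refine sect_ext fun {V} h q => ?_
  rw [evS_post, evS_FS, evS_zero]
  obtain ⟨S, hS, hl⟩ := B.locallySurjective V (P.obj.map h.op p) q
  refine eq_of_local' I'' hS fun W g hg => ?_
  obtain ⟨x, h1, h2⟩ := hl g hg
  rw [map_app, D.Fq_map, ← h1, ← h2, ← D.d_R d hd, map_zero]
  exact ConcreteCategory.congr_hom (congrArg (fun φ => φ.hom.app (op W)) w) (D.R W x)

end ExtData

end Groth.Agent.BiextVanish
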