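import Groth.Agent.BiextVanish.Cochain
import Mathlib.Algebra.Homology.DerivedCategory.Ext.ExactSequences

/-!
Triviality of biextensions from vanishing of `Ext¹(P, Hom(Q, G))` and `Hom(P, Ext¹(Q, G))`.
-/

universe w u

open CategoryTheory CategoryTheory.Limits Opposite MonoidalCategory

noncomputable section

namespace Groth.Agent.BiextVanish

variable {C : Type (u + 1)} [Category.{u} C] {J : GrothendieckTopology C} [HasSheafify J AddCommGrpCat.{u + 1}]
  {P Q G I I' : Sheaf J AddCommGrpCat.{u + 1}} {B : Biext J P Q G} {ι : G ⟶ I} (D : ExtData B ι)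

namespace ExtData

variable (d : I ⟶ I') (hd : ι ≫ d = 0)

theorem exists_local_lift {I'' : Sheaf J AddCommGrpCat.{u + 1}} (d' : I' ⟶ I'') (w : d ≫ d' = 0)
    (wS : post Q d ≫ post Q d' = 0)
    (hφ : ∀ φ : P ⟶ (ShortComplex.mk (post Q d) (post Q d') wS).homology, φ = 0)
    (U : C) (p : P.obj.obj (op U)) : ∃ S ∈ J U, ∀ ⦃V : C⦄ (f : V ⟶ U), S f →
      ∃ s, (post Q d).hom.app (op V) s = D.FS d hd V (P.obj.map f.op p) := by
  let S := ShortComplex.mk (post Q d) (post Q d') wS
  have hex : ∀ (U : C) (p : P.obj.obj (op U)), ∃ z, S.iCycles.hom.app (op U) z = D.FS d hd U p := fun U p =>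
    exists_cycles S U _ (D.d'_FS d hd d' w U p)
  choose z hz using hex
  have hadd : ∀ (U : C) (p p' : P.obj.obj (op U)),
      z U (p + p') = z U p + z U p' + S.toCycles.hom.app (op U) (D.dS U p p') := fun U p p' => by
    apply app_injective S.iCycles U
    rw [map_add, map_add, hz, hz, hz, D.FS_add d hd]
    congr 1
    exact (ConcreteCategory.congr_hom (congrArg (fun φ => φ.hom.app (op U)) S.toCycles_i) (D.dS U p p')).symm
  let φ : P ⟶ S.homology := ⟨{
    app := fun X => AddCommGrpCat.ofHom (AddMonoidHom.mk' (fun p => S.homologyπ.hom.app X (z X.unop p)) fun p p' => by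
      have h0 : S.homologyπ.hom.app X (S.toCycles.hom.app X (D.dS X.unop p p')) = 0 :=
        ConcreteCategory.congr_hom (congrArg (fun φ => φ.hom.app X) S.toCycles_comp_homologyπ) _
      show S.homologyπ.hom.app (op X.unop) (z X.unop (p + p')) = _
      rw [hadd, map_add, map_add]
      exact (congrArg₂ (· + ·) rfl h0).trans (add_zero _))
    naturality := fun X Y f => by
      apply AddCommGrpCat.ext
      intro p
      show S.homologyπ.hom.app (op Y.unop) (z Y.unop (P.obj.map f.unop.op p)) =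
        S.homology.obj.map f.unop.op (S.homologyπ.hom.app (op X.unop) (z X.unop p))
      rw [map_app]
      congr 1
      apply app_injective S.iCycles Y.unop
      rw [hz, ← map_app, hz, D.FS_map d hd] }⟩
  have h0 : S.homologyπ.hom.app (op U) (z U p) = 0 :=
    ConcreteCategory.congr_hom (congrArg (fun ψ => ψ.hom.app (op U)) (hφ φ)) p
  obtain ⟨R, hR, hl⟩ := exact_local_lift
    (ShortComplex.mk S.toCycles S.homologyπ S.toCycles_comp_homologyπ)
    (ShortComplex.exact_of_g_is_cokernel _ S.homologyIsCokernel) U (z U p) h0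
  refine ⟨R, hR, fun V f hf => ?_⟩
  obtain ⟨s, hs⟩ := hl f hf
  refine ⟨s, ?_⟩
  rw [← D.FS_map d hd, ← hz U p, map_app]
  refine Eq.trans ?_ (congrArg (S.iCycles.hom.app (op V)) hs)
  exact (ConcreteCategory.congr_hom (congrArg (fun φ => φ.hom.app (op V)) S.toCycles_i) s).symm

/-- pairs `(p, s)` with `d ∘ s = d ∘ R` over `p` -/
def pairs : Subfunctor (Biext.uSh J P ⊗ Biext.uSh J (HomSh.homSh J Q I)).obj where
  obj U := {x | (post Q d).hom.app U x.2 = D.FS d hd U.unop x.1}
  map {U V} f x (hx : _ = _) := by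
    show (post Q d).hom.app V ((HomSh.homSh J Q I).obj.map f x.2) = D.FS d hd V.unop (P.obj.map f x.1)
    rw [show f = f.unop.op from rfl]
    exact (map_app (post Q d) f.unop x.2).symm.trans ((congrArg _ hx).trans (D.FS_map d hd f.unop x.1))

/-- the carrier of the extension -/
@[ext]
structure Pair (U : C) : Type (u + 1) where
  p : P.obj.obj (op U)
  s : (HomSh.homSh J Q I).obj.obj (op U)
  cond : (post Q d).hom.app (op U) s = D.FS d hd U p

theorem FS_zero (U : C) : D.FS d hd U 0 = -(post Q d).hom.app (op U) (D.dS U 0 0) := by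
  have h := D.FS_add d hd U 0 0
  rw [add_zero] at h
  refine eq_neg_of_add_eq_zero_left ?_
  have h' : D.FS d hd U 0 + 0 = D.FS d hd U 0 + (D.FS d hd U 0 + (post Q d).hom.app (op U) (D.dS U 0 0)) := by
    rw [add_zero, ← add_assoc]; exact h
  exact (add_left_cancel h').symm

instance (U : C) : Add (D.Pair d hd U) :=
  ⟨fun x y => ⟨x.p + y.p, x.s + y.s + D.dS U x.p y.p, by rw [map_add, map_add, x.cond, y.cond, D.FS_add d hd]⟩⟩
instance (U : C) : Zero (D.Pair d hd U) :=
  ⟨⟨0, -D.dS U 0 0, by rw [map_neg, D.FS_zero d hd]⟩⟩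
instance (U : C) : Neg (D.Pair d hd U) :=
  ⟨fun x => ⟨-x.p, -x.s - D.dS U x.p (-x.p) - D.dS U 0 0, by
    have h := D.FS_add d hd U x.p (-x.p)
    rw [add_neg_cancel, D.FS_zero d hd] at h
    rw [map_sub, map_sub, map_neg, x.cond, sub_eq_add_neg _ ((post Q d).hom.app (op U) (D.dS U 0 0)), h]
    abel⟩⟩

instance (U : C) : AddCommGroup (D.Pair d hd U) :=
  { AddGroup.ofLeftAxioms
      (fun x y z => Pair.ext (add_assoc _ _ _) (by
        show x.s + y.s + D.dS U x.p y.p + z.s + D.dS U (x.p + y.p) z.p =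
          x.s + (y.s + z.s + D.dS U y.p z.p) + D.dS U x.p (y.p + z.p)
        have h := D.dS_assoc U x.p y.p z.p
        rw [← sub_eq_zero] at h ⊢
        rw [← h]; abel1))
      (fun x => Pair.ext (zero_add _) (by
        show -D.dS U 0 0 + x.s + D.dS U 0 x.p = x.s
        rw [D.dS_zero_left U x.p]; abel1))
      (fun x => Pair.ext (neg_add_cancel _) (by
        show -x.s - D.dS U x.p (-x.p) - D.dS U 0 0 + x.s + D.dS U (-x.p) x.p = -D.dS U 0 0
        rw [D.dS_symm U (-x.p)]; abel1)) with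
    add_comm := fun x y => Pair.ext (add_comm _ _) (by
      show x.s + y.s + D.dS U x.p y.p = y.s + x.s + D.dS U y.p x.p
      rw [D.dS_symm, add_comm x.s]) }

/-- the presheaf of pairs -/
def pairPre : Cᵒᵖ ⥤ AddCommGrpCat.{u + 1} where
  obj U := AddCommGrpCat.of (D.Pair d hd U.unop)
  map {U V} f := AddCommGrpCat.ofHom (AddMonoidHom.mk'
    (fun x => (⟨P.obj.map f.unop.op x.p, (HomSh.homSh J Q I).obj.map f.unop.op x.s, by
      rw [← map_app, x.cond, D.FS_map d hd]⟩ : D.Pair d hd V.unop))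
    fun x y => Pair.ext (map_add _ _ _) (by
      show (HomSh.homSh J Q I).obj.map f.unop.op (x.s + y.s + D.dS U.unop x.p y.p) =
        _ + _ + D.dS V.unop (P.obj.map f.unop.op x.p) (P.obj.map f.unop.op y.p)
      rw [map_add, map_add, D.dS_map]))
  map_id U := by
    apply AddCommGrpCat.ext
    intro x
    exact Pair.ext (map_id' P x.p) (map_id' (HomSh.homSh J Q I) x.s)
  map_comp f g := by
    apply AddCommGrpCat.ext
    intro x
    exact Pair.ext (map_comp' P f.unop g.unop x.p) (map_comp' (HomSh.homSh J Q I) f.unop g.unop x.s)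

theorem isSheaf_pairPre : Presheaf.IsSheaf J (D.pairPre d hd) := by
  apply Presheaf.isSheaf_of_isSheaf_comp J _ (forget AddCommGrpCat.{u + 1})
  have h : (D.pairs d hd).toFunctor ≅ D.pairPre d hd ⋙ forget AddCommGrpCat.{u + 1} :=
    NatIso.ofComponents (fun U => Equiv.toIso
      { toFun := fun x => (⟨x.1.1, x.1.2, x.2⟩ : D.Pair d hd U.unop)
        invFun := fun x => ⟨(x.p, x.s), x.cond⟩
        left_inv := fun x => rfl
        right_inv := fun x => rfl }) fun f => rfl
  rw [← Presheaf.isSheaf_of_iso_iff h, isSheaf_iff_isSheaf_of_type]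
  have hF := (isSheaf_iff_isSheaf_of_type _ _).mp (Biext.uSh J P ⊗ Biext.uSh J (HomSh.homSh J Q I)).property
  rw [Subfunctor.isSheaf_iff _ hF]
  intro U x hx
  refine eq_of_local' (HomSh.homSh J Q I') hx fun V f hf => ?_
  exact (map_app (post Q d) f x.2).trans (hf.trans (D.FS_map d hd f x.1).symm)

/-- the extension of `P` by `Hom(Q, G)` -/
def extSheaf : Sheaf J AddCommGrpCat.{u + 1} := ⟨D.pairPre d hd, D.isSheaf_pairPre d hd⟩

/-- inclusion -/
def extIn : HomSh.homSh J Q G ⟶ D.extSheaf d hd :=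
  ⟨{ app := fun U => AddCommGrpCat.ofHom (AddMonoidHom.mk' (fun a =>
      (⟨0, -D.dS U.unop 0 0 + (post Q ι).hom.app U a, by
        rw [map_add, map_neg, ← D.FS_zero d hd]
        have h0 : (post Q d).hom.app U ((post Q ι).hom.app U a) = 0 := by
          refine sect_ext fun h q => ?_
          refine (evS_post d _ h q).trans ?_
          exact (congrArg (d.hom.app _) (evS_post ι a h q)).trans (ExtData.d_ι (d := d) (hd := hd) _ _)
        exact (congrArg₂ (· + ·) rfl h0).trans (add_zero _)⟩ : D.Pair d hd U.unop)) fun a b => by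
      refine Pair.ext (zero_add _).symm ?_
      show -D.dS U.unop 0 0 + (post Q ι).hom.app U (a + b) =
        -D.dS U.unop 0 0 + (post Q ι).hom.app U a + (-D.dS U.unop 0 0 + (post Q ι).hom.app U b) + D.dS U.unop 0 0
      erw [map_add]; abel1)
     naturality := fun U V f => by
      apply AddCommGrpCat.ext
      intro a
      refine Pair.ext (map_zero (P.obj.map f).hom).symm ?_
      show -D.dS V.unop 0 0 + (post Q ι).hom.app (op V.unop) ((HomSh.homSh J Q G).obj.map f.unop.op a) =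
        (HomSh.homSh J Q I).obj.map f.unop.op (-D.dS U.unop 0 0 + (post Q ι).hom.app (op U.unop) a)
      rw [map_add, map_neg, D.dS_map, map_zero, map_app] }⟩

/-- projection -/
def extOut : D.extSheaf d hd ⟶ P :=
  ⟨{ app := fun U => AddCommGrpCat.ofHom (AddMonoidHom.mk' (fun x : D.Pair d hd U.unop => x.p) fun _ _ => rfl)
     naturality := fun U V f => by
      apply AddCommGrpCat.ext
      intro x
      rfl }⟩

theorem extIn_extOut : D.extIn d hd ≫ D.extOut d hd = 0 := by
  apply Sheaf.hom_ext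
  apply NatTrans.ext
  funext U
  apply AddCommGrpCat.ext
  intro a
  rfl

theorem shortExact_ext [Mono ι] (hex : (ShortComplex.mk ι d hd).Exact)
    (hloc : ∀ (U : C) (p : P.obj.obj (op U)), ∃ S ∈ J U, ∀ ⦃V : C⦄ (f : V ⟶ U), S f →
      ∃ s, (post Q d).hom.app (op V) s = D.FS d hd V (P.obj.map f.op p)) :
    (ShortComplex.mk _ _ (D.extIn_extOut d hd)).ShortExact := by
  haveI : Mono (D.extIn d hd) := mono_of_app_injective _ fun U a b h => by
    refine sect_ext fun {V} f q => app_injective ι V ?_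
    have h' := congrArg Pair.s h
    have h'' := add_left_cancel (G := (HomSh.homSh J Q I).obj.obj (op U)) h'
    rw [← evS_post ι a f q, ← evS_post ι b f q, h'']
  haveI : Epi (D.extOut d hd) := epi_of_local _ fun U p => by
    obtain ⟨S, hS, hl⟩ := hloc U p
    refine ⟨S, hS, fun V f hf => ?_⟩
    obtain ⟨s, hs⟩ := hl f hf
    exact ⟨(⟨P.obj.map f.op p, s, hs⟩ : D.Pair d hd V), rfl⟩
  refine { exact := exact_of_lift _ fun U x hx => ?_ }
  obtain ⟨p, s, hs⟩ := x
  obtain rfl : p = 0 := hx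
  have hs' : (post Q d).hom.app (op U) (s + D.dS U 0 0) = 0 := by
    rw [map_add, hs, D.FS_zero d hd, neg_add_cancel]
  have key : ∀ {V : C} (f : V ⟶ U) (q : Q.obj.obj (op V)), ∃ g, ι.hom.app (op V) g = evS (s + D.dS U 0 0) f q :=
    fun {V} f q => exists_of_exact_mono (ShortComplex.mk ι d hd) hex V _
      (((evS_post d _ f q).symm.trans (congrArg (fun t => evS t f q) hs')).trans (evS_zero f q))
  choose g hg using @key
  refine ⟨mkSect (fun {V} f => AddMonoidHom.mk' (g f) fun q q' => app_injective ι V (by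
      rw [hg, map_add (evS (s + D.dS U 0 0) f), map_add (ι.hom.app (op V)).hom]
      exact congrArg₂ (· + ·) (hg f q).symm (hg f q').symm)) (fun {V W} f k q => app_injective ι W (by
      show ι.hom.app (op W) (G.obj.map k.op (g f q)) = ι.hom.app (op W) (g _ _)
      rw [← map_app, hg, hg, evS_natural])), ?_⟩
  refine Pair.ext rfl ?_
  refine sect_ext fun {V} f q => ?_
  show evS (-D.dS U 0 0 + (post Q ι).hom.app (op U) _) f q = evS s f q
  rw [evS_add, evS_post, evS_mkSect]
  show _ + ι.hom.app (op V) (g f q) = _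
  rw [hg, evS_add, evS_neg]
  abel

theorem nonempty_splitting [Mono ι] (hex : (ShortComplex.mk ι d hd).Exact) (ψ : P ⟶ D.extSheaf d hd)
    (hψ : ψ ≫ D.extOut d hd = 𝟙 P) : Biext.IsTrivial J B := by
  let s : ∀ (U : C) (p : P.obj.obj (op U)), (HomSh.homSh J Q I).obj.obj (op U) := fun U p =>
    (ψ.hom.app (op U) p : D.Pair d hd U).s
  have hp : ∀ (U : C) (p : P.obj.obj (op U)), (ψ.hom.app (op U) p : D.Pair d hd U).p = p := fun U p =>
    ConcreteCategory.congr_hom (congrArg (fun φ => φ.hom.app (op U)) hψ) p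
  have hs : ∀ (U : C) (p : P.obj.obj (op U)), (post Q d).hom.app (op U) (s U p) = D.FS d hd U p := fun U p =>
    (ψ.hom.app (op U) p : D.Pair d hd U).cond.trans (congrArg (D.FS d hd U) (hp U p))
  have hsadd : ∀ (U : C) (p p' : P.obj.obj (op U)), s U (p + p') = s U p + s U p' + D.dS U p p' := fun U p p' => by
    refine (congrArg Pair.s ((ψ.hom.app (op U)).hom.map_add p p')).trans ?_
    show s U p + s U p' + D.dS U (ψ.hom.app (op U) p : D.Pair d hd U).p (ψ.hom.app (op U) p' : D.Pair d hd U).p = _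
    rw [hp, hp]
  have hsmap : ∀ {U V : C} (f : V ⟶ U) (p : P.obj.obj (op U)),
      (HomSh.homSh J Q I).obj.map f.op (s U p) = s V (P.obj.map f.op p) := fun {U V} f p =>
    congrArg Pair.s (map_app ψ f p)
  have huniq : ∀ {U : C} {x x' : B.E.obj.obj (op U)}, B.πP U x = B.πP U x' → B.πQ U x = B.πQ U x' →
      D.R U x = D.R U x' → x = x' := fun {U x x'} h1 h2 h3 => by
    obtain ⟨g, hg, -⟩ := B.existsUnique_act U x x' h1 h2
    subst hg
    rw [D.R_act, right_eq_add, ← map_zero (ι.hom.app (op U)).hom] at h3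
    rw [app_injective ι U h3, B.zero_act]
  have hex' : ∀ (U : C) (p : P.obj.obj (op U)) (q : Q.obj.obj (op U)), ∃ x : B.E.obj.obj (op U),
      B.πP U x = p ∧ B.πQ U x = q ∧ D.R U x = evS (s U p) (𝟙 U) q := by
    intro U p q
    let Pr : ∀ ⦃V : C⦄, (V ⟶ U) → B.E.obj.obj (op V) → Prop := fun V f x =>
      B.πP V x = P.obj.map f.op p ∧ B.πQ V x = Q.obj.map f.op q ∧ D.R V x = evS (s U p) f (Q.obj.map f.op q)
    obtain ⟨x, S, hS, hx⟩ := glue B.E Pr
      (fun V W f g x ⟨h1, h2, h3⟩ => ⟨by rw [B.πP_map, h1, ← map_comp'], by rw [B.πQ_map, h2, ← map_comp'],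
        by rw [← D.R_map, h3, evS_natural, ← map_comp']⟩)
      (fun V f x y ⟨h1, h2, h3⟩ ⟨h1', h2', h3'⟩ => huniq (h1.trans h1'.symm) (h2.trans h2'.symm) (h3.trans h3'.symm))
      (by
        obtain ⟨S, hS, hl⟩ := B.locallySurjective U p q
        refine ⟨S, hS, fun V f hf => ?_⟩
        obtain ⟨x, h1, h2⟩ := hl f hf
        have hk : d.hom.app (op V) (evS (s U p) f (Q.obj.map f.op q) - D.R V x) = 0 := by
          rw [map_sub, sub_eq_zero, ← evS_post, hs, evS_FS, D.d_R d hd, h1, h2]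
        obtain ⟨g, hg⟩ := exists_of_exact_mono (ShortComplex.mk ι d hd) hex V _ hk
        exact ⟨B.act V g x, by rw [B.πP_act, h1], by rw [B.πQ_act, h2],
          by rw [D.R_act]; exact eq_sub_iff_add_eq.mp hg⟩)
    refine ⟨x, eq_of_local' P hS fun V f hf => by rw [← B.πP_map]; exact (hx f hf).1,
      eq_of_local' Q hS fun V f hf => by rw [← B.πQ_map]; exact (hx f hf).2.1,
      eq_of_local' I hS fun V f hf => ?_⟩
    rw [D.R_map, (hx f hf).2.2, evS_natural, Category.comp_id]
  choose σ h1 h2 h3 using hex'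
  refine ⟨{ σ := σ, πP_σ := h1, πQ_σ := h2, σ_map := fun {T T'} f p q => ?_, σ_add₁ := fun T p p' q => ?_,
            σ_add₂ := fun T p q q' => ?_ }⟩
  · refine huniq (by rw [B.πP_map, h1, h1]) (by rw [B.πQ_map, h2, h2]) ?_
    rw [← D.R_map, h3, h3, ← hsmap, evS_natural, Category.comp_id, evS_map_one]
  · refine huniq (by rw [B.πP_add₁, h1, h1, h1]) (by rw [B.πQ_add₁, h2, h2]) ?_
    rw [D.R_add₁, h3, h3, h3, h1, h1, h2, hsadd, evS_add, evS_add, evS_dS, map_id', map_id']
  · refine huniq (by rw [B.πP_add₂, h1, h1]) (by rw [B.πQ_add₂, h2, h2, h2]) ?_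
    rw [D.R_add₂, h3, h3, h3, map_add]

end ExtData

variable [HasExt.{w} (Sheaf J AddCommGrpCat.{u + 1})]

/-- The main theorem. -/
theorem isTrivial_of_vanishing (B : Biext J P Q G) {I'' : Sheaf J AddCommGrpCat.{u + 1}} [Injective I]
    (ι : G ⟶ I) [Mono ι] (d : I ⟶ I') (d' : I' ⟶ I'') (hd : ι ≫ d = 0) (hw : d ≫ d' = 0)
    (hex : (ShortComplex.mk ι d hd).Exact) (wS : post Q d ≫ post Q d' = 0)
    (hφ : ∀ φ : P ⟶ (ShortComplex.mk (post Q d) (post Q d') wS).homology, φ = 0)
    (h₁ : ∀ e : Abelian.Ext P (HomSh.homSh J Q G) 1, e = 0) : Biext.IsTrivial J B := by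
  obtain ⟨R, hR1, hR2, hR3⟩ := exists_ext_to_injective B ι
  let D : ExtData B ι := ⟨R, hR1, hR2, hR3⟩
  have hse := D.shortExact_ext d hd hex fun U p => D.exists_local_lift d hd d' hw wS hφ U p
  obtain ⟨x₂, hx₂⟩ := Abelian.Ext.covariant_sequence_exact₃ P hse (Abelian.Ext.mk₀ (𝟙 P)) (zero_add 1) (h₁ _)
  obtain ⟨ψ, rfl⟩ := (Abelian.Ext.mk₀_bijective P _).2 x₂
  rw [Abelian.Ext.mk₀_comp_mk₀] at hx₂
  exact D.nonempty_splitting d hd hex ψ ((Abelian.Ext.mk₀_bijective P P).1 hx₂)

end Groth.Agent.BiextVanish
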