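import Mathlib.CategoryTheory.Abelian.RightDerived
import Mathlib.CategoryTheory.Abelian.Injective.Resolution

/-!
The first right derived functor from the first terms of an injective resolution.
-/

universe v v' u u'

open CategoryTheory CategoryTheory.Limits

noncomputable section

namespace Groth.Agent.BiextVanish

variable {A : Type u} [Category.{v} A] [Abelian A] [HasInjectiveResolutions A]
  {D : Type u'} [Category.{v'} D] [Abelian D] (F : A ⥤ D) [F.Additive]

theorem exists_resolution_data (X : A) :
    ∃ (I I' I'' : A) (ι : X ⟶ I) (d : I ⟶ I') (d' : I' ⟶ I'') (hd : ι ≫ d = 0) (_ : d ≫ d' = 0)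
      (wS : F.map d ≫ F.map d' = 0), Injective I ∧ Mono ι ∧ (ShortComplex.mk ι d hd).Exact ∧
      Nonempty ((F.rightDerived 1).obj X ≅ (ShortComplex.mk (F.map d) (F.map d') wS).homology) := by
  let R := injectiveResolution X
  refine ⟨_, _, _, R.ι.f 0, R.cocomplex.d 0 1, R.cocomplex.d 1 2, R.ι_f_zero_comp_complex_d,
    R.cocomplex.d_comp_d 0 1 2, by rw [← F.map_comp, R.cocomplex.d_comp_d 0 1 2, F.map_zero],
    inferInstance, mono_of_isLimit_fork R.isLimitKernelFork,
    ShortComplex.exact_of_f_is_kernel _ R.isLimitKernelFork, ⟨?_⟩⟩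
  exact R.isoRightDerivedObj F 1 ≪≫
    ShortComplex.homologyMapIso (((F.mapHomologicalComplex _).obj R.cocomplex).isoSc' 0 1 2 (by simp) (by simp))

end Groth.Agent.BiextVanish
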