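import Groth.Agent.BiextVanish.Basic
import Mathlib.Algebra.Group.MinimalAxioms

/-!
The second partial law of a biextension makes each `E_p` a group; extension of a monomorphism to an injective sheaf.
-/

universe u

open CategoryTheory CategoryTheory.Limits Opposite
open scoped Classical DirectSum

noncomputable section

namespace Groth.Agent.BiextVanish

variable {C : Type (u + 1)} [Category.{u} C] {J : GrothendieckTopology C}
  {P Q G : Sheaf J AddCommGrpCat.{u + 1}} (B : Biext J P Q G)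

theorem act_eq_self {T : C} {g : G.obj.obj (op T)} {x : B.E.obj.obj (op T)} (h : B.act T g x = x) : g = 0 :=
  (B.existsUnique_act T x x rfl rfl).unique h (B.zero_act T x)

theorem act_left_cancel {T : C} {g g' : G.obj.obj (op T)} {x : B.E.obj.obj (op T)}
    (h : B.act T g x = B.act T g' x) : g = g' :=
  (B.existsUnique_act T x (B.act T g' x) (B.πP_act T g' x).symm (B.πQ_act T g' x).symm).unique h rfl

theorem add₂_congr {T : C} {x x' y y' : B.E.obj.obj (op T)} (hx : x = x') (hy : y = y')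
    (h : B.πP T x = B.πP T y) : B.add₂ T x y h = B.add₂ T x' y' (by rw [← hx, ← hy]; exact h) := by
  subst hx hy; rfl

theorem add₁_congr {T : C} {x x' y y' : B.E.obj.obj (op T)} (hx : x = x') (hy : y = y')
    (h : B.πQ T x = B.πQ T y) : B.add₁ T x y h = B.add₁ T x' y' (by rw [← hx, ← hy]; exact h) := by
  subst hx hy; rfl

theorem add₂_act_right {T : C} (g : G.obj.obj (op T)) (x y : B.E.obj.obj (op T)) (h : B.πP T x = B.πP T y) :
    B.add₂ T x (B.act T g y) (h.trans (B.πP_act T g y).symm) = B.act T g (B.add₂ T x y h) := by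
  rw [B.add₂_comm, B.add₂_act, B.add₂_comm T x y h]

theorem add₁_act_right {T : C} (g : G.obj.obj (op T)) (x y : B.E.obj.obj (op T)) (h : B.πQ T x = B.πQ T y) :
    B.add₁ T x (B.act T g y) (h.trans (B.πQ_act T g y).symm) = B.act T g (B.add₁ T x y h) := by
  rw [B.add₁_comm, B.add₁_act, B.add₁_comm T x y h]

theorem exists_unit₂ (T : C) (p : P.obj.obj (op T)) :
    ∃ e : B.E.obj.obj (op T), B.πP T e = p ∧ B.πQ T e = 0 ∧ ∀ h, B.add₂ T e e h = e := by
  let Pr : ∀ ⦃V : C⦄, (V ⟶ T) → B.E.obj.obj (op V) → Prop :=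
    fun V f e => B.πP V e = P.obj.map f.op p ∧ B.πQ V e = 0 ∧ ∀ h, B.add₂ V e e h = e
  obtain ⟨e, S, hS, he⟩ := glue B.E Pr (fun V W f g e ⟨h1, h2, h3⟩ => ⟨by rw [B.πP_map, h1, ← map_comp'],
      by rw [B.πQ_map, h2, map_zero], fun h => by
        rw [← B.add₂_map g e e rfl, h3]⟩)
    (fun V f x y ⟨hx1, hx2, hx3⟩ ⟨hy1, hy2, hy3⟩ => by
      obtain ⟨g, hg, -⟩ := B.existsUnique_act V x y (hx1.trans hy1.symm) (hx2.trans hy2.symm)
      have h := hy3 rfl
      subst hg
      have h' : B.act V (g + g) x = B.act V g x := by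
        rw [B.add_act]
        refine Eq.trans ?_ h
        rw [B.add₂_act (h := (B.πP_act V g x).symm), add₂_act_right B g x x rfl, hx3]
      have : g = 0 := add_eq_left.mp (act_left_cancel B h')
      rw [this, B.zero_act])
    (by
      obtain ⟨R, hR, hl⟩ := B.locallySurjective T p 0
      refine ⟨R, hR, fun V f hf => ?_⟩
      obtain ⟨x, hx1, hx2⟩ := hl f hf
      rw [map_zero] at hx2
      obtain ⟨g, hg, -⟩ := B.existsUnique_act V x (B.add₂ V x x rfl) (B.πP_add₂ V x x rfl).symm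
        (by rw [B.πQ_add₂, hx2, add_zero])
      refine ⟨B.act V (-g) x, by rw [B.πP_act, hx1], by rw [B.πQ_act, hx2], fun h => ?_⟩
      rw [B.add₂_act (h := (B.πP_act V _ x).symm), add₂_act_right B _ x x rfl, ← hg, ← B.add_act, ← B.add_act]
      congr 1
      abel)
  have h1 : B.πP T e = p := eq_of_local' P hS fun V f hf => by rw [← B.πP_map]; exact (he f hf).1
  have h2 : B.πQ T e = 0 := eq_of_local' Q hS fun V f hf => by rw [← B.πQ_map, map_zero]; exact (he f hf).2.1
  exact ⟨e, h1, h2, fun h => eq_of_local B.E hS fun V f hf => by rw [B.add₂_map]; exact (he f hf).2.2 _⟩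

/-- the neutral section of `E_p` -/
def unit₂ (T : C) (p : P.obj.obj (op T)) : B.E.obj.obj (op T) := (exists_unit₂ B T p).choose
theorem πP_unit₂ (T : C) (p : P.obj.obj (op T)) : B.πP T (unit₂ B T p) = p := (exists_unit₂ B T p).choose_spec.1
theorem πQ_unit₂ (T : C) (p : P.obj.obj (op T)) : B.πQ T (unit₂ B T p) = 0 := (exists_unit₂ B T p).choose_spec.2.1
theorem unit₂_idem (T : C) (p : P.obj.obj (op T)) (h) : B.add₂ T (unit₂ B T p) (unit₂ B T p) h = unit₂ B T p :=
  (exists_unit₂ B T p).choose_spec.2.2 h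

theorem eq_unit₂ {T : C} {p : P.obj.obj (op T)} {e : B.E.obj.obj (op T)} (h1 : B.πP T e = p) (h2 : B.πQ T e = 0)
    (h3 : B.add₂ T e e rfl = e) : e = unit₂ B T p := by
  obtain ⟨g, hg, -⟩ := B.existsUnique_act T (unit₂ B T p) e ((πP_unit₂ B T p).trans h1.symm)
    ((πQ_unit₂ B T p).trans h2.symm)
  subst hg
  have h' : B.act T (g + g) (unit₂ B T p) = B.act T g (unit₂ B T p) := by
    rw [B.add_act]
    refine Eq.trans ?_ h3
    rw [B.add₂_act (h := (B.πP_act T g _).symm), add₂_act_right B g _ _ rfl, unit₂_idem]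
  rw [show g = 0 from add_eq_left.mp (act_left_cancel B h'), B.zero_act]

theorem map_unit₂ {T T' : C} (f : T' ⟶ T) (p : P.obj.obj (op T)) :
    B.E.obj.map f.op (unit₂ B T p) = unit₂ B T' (P.obj.map f.op p) :=
  eq_unit₂ B (by rw [B.πP_map, πP_unit₂]) (by rw [B.πQ_map, πQ_unit₂, map_zero])
    (by rw [← B.add₂_map f _ _ rfl, unit₂_idem])

theorem unit₂_add {T : C} {p : P.obj.obj (op T)} (x : B.E.obj.obj (op T)) (hx : B.πP T x = p) (h) :
    B.add₂ T (unit₂ B T p) x h = x := by
  obtain ⟨g, hg, -⟩ := B.existsUnique_act T x (B.add₂ T (unit₂ B T p) x h)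
    (by rw [B.πP_add₂, πP_unit₂, hx]) (by rw [B.πQ_add₂, πQ_unit₂, zero_add])
  have h' : B.act T (g + g) x = B.act T g x := by
    have h3 := B.add₂_assoc T (unit₂ B T p) (unit₂ B T p) x rfl h
    rw [add₂_congr B (unit₂_idem B T p _) rfl, add₂_congr B rfl hg.symm, add₂_act_right B g _ _ h, ← hg] at h3
    rw [B.add_act]; exact h3.symm
  rw [← hg, show g = 0 from add_eq_left.mp (act_left_cancel B h'), B.zero_act]

theorem exists_neg₂ (T : C) (x : B.E.obj.obj (op T)) :
    ∃ y : B.E.obj.obj (op T), ∃ h : B.πP T y = B.πP T x, B.add₂ T y x h = unit₂ B T (B.πP T x) := by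
  let Pr : ∀ ⦃V : C⦄, (V ⟶ T) → B.E.obj.obj (op V) → Prop := fun V f y =>
    ∃ h : B.πP V y = B.πP V (B.E.obj.map f.op x),
      B.add₂ V y (B.E.obj.map f.op x) h = unit₂ B V (B.πP V (B.E.obj.map f.op x))
  obtain ⟨y, S, hS, hy⟩ := glue B.E Pr (fun V W f g y ⟨h, h'⟩ => by
      have e : B.E.obj.map (g ≫ f).op x = B.E.obj.map g.op (B.E.obj.map f.op x) := by simp
      refine ⟨by rw [e, B.πP_map, B.πP_map, h], ?_⟩
      rw [add₂_congr B rfl e, ← B.add₂_map g _ _ h, h', map_unit₂, e, ← B.πP_map])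
    (fun V f y y' ⟨h, e⟩ ⟨h', e'⟩ => by
      have hQ : B.πQ V y = B.πQ V y' := by
        have a := congrArg (B.πQ V) (e.trans e'.symm)
        rw [B.πQ_add₂, B.πQ_add₂] at a
        exact add_right_cancel a
      obtain ⟨g, hg, -⟩ := B.existsUnique_act V y y' (h.trans h'.symm) hQ
      subst hg
      rw [B.add₂_act (h := h), e] at e'
      rw [act_eq_self B e', B.zero_act])
    (by
      obtain ⟨R, hR, hl⟩ := B.locallySurjective T (B.πP T x) (-B.πQ T x)
      refine ⟨R, hR, fun V f hf => ?_⟩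
      obtain ⟨z, hz1, hz2⟩ := hl f hf
      rw [map_neg] at hz2
      have hP : B.πP V z = B.πP V (B.E.obj.map f.op x) := by rw [hz1, B.πP_map]
      obtain ⟨g, hg, -⟩ := B.existsUnique_act V (B.add₂ V z (B.E.obj.map f.op x) hP)
        (unit₂ B V (B.πP V (B.E.obj.map f.op x))) (by rw [B.πP_add₂, πP_unit₂, hP])
        (by rw [B.πQ_add₂, πQ_unit₂, hz2, B.πQ_map, neg_add_cancel])
      exact ⟨B.act V g z, (B.πP_act V g z).trans hP, by rw [B.add₂_act (h := hP), hg]⟩)
  have h : B.πP T y = B.πP T x := eq_of_local' P hS fun V f hf => by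
    rw [← B.πP_map, ← B.πP_map]; exact (hy f hf).1
  refine ⟨y, h, eq_of_local B.E hS fun V f hf => ?_⟩
  obtain ⟨h', e⟩ := hy f hf
  rw [B.add₂_map, map_unit₂, e, B.πP_map]

/-- the fibre `E_p` -/
abbrev Fib (T : C) (p : P.obj.obj (op T)) : Type (u + 1) := {x : B.E.obj.obj (op T) // B.πP T x = p}

instance (T : C) (p : P.obj.obj (op T)) : Add (Fib B T p) :=
  ⟨fun x y => ⟨B.add₂ T x.1 y.1 (x.2.trans y.2.symm), (B.πP_add₂ T _ _ _).trans x.2⟩⟩
instance (T : C) (p : P.obj.obj (op T)) : Zero (Fib B T p) := ⟨⟨unit₂ B T p, πP_unit₂ B T p⟩⟩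
instance (T : C) (p : P.obj.obj (op T)) : Neg (Fib B T p) :=
  ⟨fun x => ⟨(exists_neg₂ B T x.1).choose, (exists_neg₂ B T x.1).choose_spec.choose.trans x.2⟩⟩

instance (T : C) (p : P.obj.obj (op T)) : AddCommGroup (Fib B T p) :=
  { AddGroup.ofLeftAxioms (fun x y z => Subtype.ext (B.add₂_assoc T x.1 y.1 z.1 (x.2.trans y.2.symm) (y.2.trans z.2.symm)))
      (fun x => Subtype.ext (unit₂_add B x.1 x.2 _))
      (fun x => Subtype.ext ((exists_neg₂ B T x.1).choose_spec.choose_spec.trans (congrArg (unit₂ B T) x.2))) with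
    add_comm := fun x y => Subtype.ext (B.add₂_comm T x.1 y.1 _) }

theorem Fib.add_val {T : C} {p : P.obj.obj (op T)} (x y : Fib B T p) :
    (x + y).1 = B.add₂ T x.1 y.1 (x.2.trans y.2.symm) := rfl

/-- restriction of fibres -/
def resFib {T T' : C} (f : T' ⟶ T) (p : P.obj.obj (op T)) : Fib B T p →+ Fib B T' (P.obj.map f.op p) :=
  AddMonoidHom.mk' (fun x => (⟨B.E.obj.map f.op x.1, by rw [B.πP_map, x.2]⟩ : Fib B T' (P.obj.map f.op p))) fun x y =>
    Subtype.ext (B.add₂_map f x.1 y.1 (x.2.trans y.2.symm))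

/-- `g ↦ g • e_p` -/
def inG (T : C) (p : P.obj.obj (op T)) : G.obj.obj (op T) →+ Fib B T p :=
  AddMonoidHom.mk' (fun g => (⟨B.act T g (unit₂ B T p), by rw [B.πP_act, πP_unit₂]⟩ : Fib B T p)) fun g g' => by
    apply Subtype.ext
    have e : B.add₂ T (B.act T g (unit₂ B T p)) (B.act T g' (unit₂ B T p))
        ((B.πP_act T g _).trans (B.πP_act T g' _).symm) = B.act T (g + g') (unit₂ B T p) := by
      rw [B.add₂_act (h := (B.πP_act T g' _).symm), add₂_act_right B g' _ _ rfl, unit₂_idem, B.add_act]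
    exact e.symm

theorem of_eq {T : C} {p p' : P.obj.obj (op T)} (hp : p = p') (x : Fib B T p) (x' : Fib B T p') (h : x.1 = x'.1) :
    DirectSum.of (Fib B T) p x = DirectSum.of (Fib B T) p' x' := by
  subst hp
  rw [Subtype.ext h]

/-- the presheaf `T ↦ ⊕ₚ E_p(T)` -/
def sumE : Cᵒᵖ ⥤ AddCommGrpCat.{u + 1} where
  obj T := AddCommGrpCat.of (⨁ p : P.obj.obj T, Fib B T.unop p)
  map {T T'} f := AddCommGrpCat.ofHom (DirectSum.toAddMonoid fun p =>
    (DirectSum.of (Fib B T'.unop) (P.obj.map f p)).comp (resFib B f.unop p))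
  map_id T := by
    apply AddCommGrpCat.hom_ext
    refine DirectSum.addHom_ext fun p x => ?_
    refine (DirectSum.toAddMonoid_of _ p x).trans (of_eq B ?_ _ _ ?_)
    · simp
    · show B.E.obj.map (𝟙 T) x.1 = x.1
      simp
  map_comp {T T' T''} f f' := by
    apply AddCommGrpCat.hom_ext
    refine DirectSum.addHom_ext fun p x => ?_
    refine (DirectSum.toAddMonoid_of _ p x).trans ?_
    simp only [AddCommGrpCat.hom_comp, AddCommGrpCat.hom_ofHom, AddMonoidHom.comp_apply]
    rw [DirectSum.toAddMonoid_of, AddMonoidHom.comp_apply, DirectSum.toAddMonoid_of, AddMonoidHom.comp_apply]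
    refine of_eq B ?_ _ _ ?_
    · simp
    · show B.E.obj.map (f ≫ f') x.1 = B.E.obj.map f' (B.E.obj.map f x.1)
      simp

/-- the presheaf `T ↦ ⊕ₚ G(T)` -/
def sumG (P G : Sheaf J AddCommGrpCat.{u + 1}) : Cᵒᵖ ⥤ AddCommGrpCat.{u + 1} where
  obj T := AddCommGrpCat.of (⨁ _p : P.obj.obj T, G.obj.obj T)
  map {T T'} f := AddCommGrpCat.ofHom (DirectSum.toAddMonoid fun p =>
    (DirectSum.of (fun _ : P.obj.obj T' => G.obj.obj T') (P.obj.map f p)).comp (G.obj.map f).hom)
  map_id T := by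
    apply AddCommGrpCat.hom_ext
    refine DirectSum.addHom_ext fun p x => ?_
    simp only [AddCommGrpCat.hom_ofHom]
    rw [DirectSum.toAddMonoid_of, AddMonoidHom.comp_apply]
    simp
  map_comp {T T' T''} f f' := by
    apply AddCommGrpCat.hom_ext
    refine DirectSum.addHom_ext fun p x => ?_
    simp only [AddCommGrpCat.hom_comp, AddCommGrpCat.hom_ofHom, AddMonoidHom.comp_apply]
    rw [DirectSum.toAddMonoid_of, AddMonoidHom.comp_apply, DirectSum.toAddMonoid_of, AddMonoidHom.comp_apply,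
      DirectSum.toAddMonoid_of, AddMonoidHom.comp_apply]
    simp

/-- inclusion -/
def sumIn : sumG P G ⟶ sumE B where
  app T := AddCommGrpCat.ofHom (DirectSum.map fun p => inG B T.unop p)
  naturality T T' f := by
    apply AddCommGrpCat.hom_ext
    refine DirectSum.addHom_ext fun p g => ?_
    simp only [sumG, sumE, AddCommGrpCat.hom_comp, AddCommGrpCat.hom_ofHom]
    erw [AddMonoidHom.comp_apply, AddMonoidHom.comp_apply, DirectSum.toAddMonoid_of, AddMonoidHom.comp_apply, DirectSum.map_of, DirectSum.map_of,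
      DirectSum.toAddMonoid_of, AddMonoidHom.comp_apply]
    refine of_eq B rfl _ _ (Eq.symm ?_)
    show B.E.obj.map f (B.act T.unop g (unit₂ B T.unop p)) = B.act T'.unop (G.obj.map f g) (unit₂ B T'.unop _)
    have := B.act_map f.unop g (unit₂ B T.unop p)
    rw [map_unit₂] at this
    exact this

instance : Mono (sumIn B) := by
  haveI : ∀ T, Mono ((sumIn B).app T) := fun T => by
    refine (AddCommGrpCat.mono_iff_injective _).mpr ((DirectSum.map_injective _).mpr fun p => ?_)
    exact fun g g' h => act_left_cancel B (congrArg Subtype.val h)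
  exact NatTrans.mono_of_mono_app _

variable [HasSheafify J AddCommGrpCat.{u + 1}]

/-- the sum map `⊕ₚ G → G → I` -/
def sumOut (P : Sheaf J AddCommGrpCat.{u + 1}) {G I : Sheaf J AddCommGrpCat.{u + 1}} (ι : G ⟶ I) : sumG P G ⟶ I.obj where
  app T := AddCommGrpCat.ofHom (DirectSum.toAddMonoid fun _ => (ι.hom.app T).hom)
  naturality T T' f := by
    apply AddCommGrpCat.hom_ext
    refine DirectSum.addHom_ext fun p g => ?_
    simp only [sumG, AddCommGrpCat.hom_comp, AddCommGrpCat.hom_ofHom, AddMonoidHom.comp_apply]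
    rw [DirectSum.toAddMonoid_of, AddMonoidHom.comp_apply, DirectSum.toAddMonoid_of, DirectSum.toAddMonoid_of]
    exact (map_app ι f.unop g).symm

/-- a splitting of the monomorphism into the injective sheaf, for all `p` at once -/
theorem exists_ext_to_injective {I : Sheaf J AddCommGrpCat.{u + 1}} [Injective I] (ι : G ⟶ I) :
    ∃ R : ∀ T : C, B.E.obj.obj (op T) → I.obj.obj (op T),
      (∀ {T T' : C} (f : T' ⟶ T) (x : B.E.obj.obj (op T)), I.obj.map f.op (R T x) = R T' (B.E.obj.map f.op x)) ∧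
      (∀ (T : C) (x y : B.E.obj.obj (op T)) (h : B.πP T x = B.πP T y), R T (B.add₂ T x y h) = R T x + R T y) ∧
      (∀ (T : C) (g : G.obj.obj (op T)) (x : B.E.obj.obj (op T)), R T (B.act T g x) = ι.hom.app (op T) g + R T x) := by
  let adj := sheafificationAdjunction J AddCommGrpCat.{u + 1}
  let h₀ := (adj.homEquiv _ _).symm (sumOut P ι)
  let r := Injective.factorThru h₀ ((presheafToSheaf J _).map (sumIn B))
  let ρ : sumE B ⟶ I.obj := adj.homEquiv _ _ r
  have hρ : sumIn B ≫ ρ = sumOut P ι := by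
    refine (adj.homEquiv_naturality_left _ _).symm.trans ?_
    rw [Injective.comp_factorThru]
    exact (adj.homEquiv _ _).apply_symm_apply _
  let R : ∀ T : C, B.E.obj.obj (op T) → I.obj.obj (op T) := fun T x =>
    ρ.app (op T) (DirectSum.of (Fib B T) (B.πP T x) ⟨x, rfl⟩)
  have hR : ∀ (T : C) (p : P.obj.obj (op T)) (x : Fib B T p), R T x.1 = ρ.app (op T) (DirectSum.of (Fib B T) p x) :=
    fun T p x => congrArg (ρ.app (op T)) (of_eq B x.2 ⟨x.1, rfl⟩ x rfl)
  have hadd : ∀ (T : C) (x y : B.E.obj.obj (op T)) (h : B.πP T x = B.πP T y),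
      R T (B.add₂ T x y h) = R T x + R T y := fun T x y h => by
    refine (hR T _ (⟨x, rfl⟩ + ⟨y, h.symm⟩)).trans ?_
    refine (congrArg (ρ.app (op T)) (map_add (DirectSum.of (Fib B T) (B.πP T x)) _ _)).trans ?_
    refine (map_add (ρ.app (op T)).hom _ _).trans ?_
    exact congrArg₂ (· + ·) (hR T _ ⟨x, rfl⟩).symm (hR T _ ⟨y, h.symm⟩).symm
  refine ⟨R, fun {T T'} f x => ?_, hadd, fun T g x => ?_⟩
  · have := (ConcreteCategory.congr_hom (ρ.naturality f.op) (DirectSum.of (Fib B T) _ ⟨x, rfl⟩)).symm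
    refine this.trans (congrArg (ρ.app (op T')) ?_)
    exact (DirectSum.toAddMonoid_of _ _ _).trans (of_eq B (B.πP_map f x).symm _ _ rfl)
  · have e : B.act T g x = B.add₂ T (B.act T g (unit₂ B T (B.πP T x))) x
        ((B.πP_act T g _).trans (πP_unit₂ B T _)) := by
      rw [B.add₂_act (h := πP_unit₂ B T _), unit₂_add B x rfl]
    rw [e, hadd]
    congr 1
    rw [show B.act T g (unit₂ B T (B.πP T x)) = (inG B T (B.πP T x) g).1 from rfl, hR]
    have h := ConcreteCategory.congr_hom (congrArg (fun φ => φ.app (op T)) hρ)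
      (DirectSum.of (fun _ : P.obj.obj (op T) => G.obj.obj (op T)) (B.πP T x) g)
    refine ((congrArg (ρ.app (op T)) (DirectSum.map_of _ _ _).symm).trans h).trans ?_
    exact DirectSum.toAddMonoid_of _ _ _

end Groth.Agent.BiextVanish
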